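import Cfsg.Agent.H196.T5.MSeven
import Cfsg.Agent.H514.OrdSpor

/-!
# The row `M` of S3854 (helper196, for helper959)

`p = 5, 11`: no `RC` elements; `p = 7, 13`: `Tv`; `p = 17, 29, 41`: the V4 trick, with Theorem O for `t = 2`; the other
primes are `3 mod 4`: an element of order 4.
-/

set_option autoImplicit false
set_option maxRecDepth 100000

namespace Cfsg.Agent.H196.T5.M

open Cfsg Subgroup
open Cfsg.Agent.H459.Rad Cfsg.Agent.H459.Iface Cfsg.Agent.H301.SY Cfsg.Agent.H959.T5
open Cfsg.Agent.BpSpor.MBigModel Cfsg.Agent.H109.Nr.M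

theorem card_eq {K : Type*} [Group K] (h : Cfsg.Spor.IsoM K) :
    Nat.card K = 808017424794512875886459904961710757005754368000000000 := by
  obtain ⟨e⟩ := h
  rw [Nat.card_congr e.toEquiv, Cfsg.Agent.MonsterP.Equiv.isM.2]

theorem exists_four {K : Type*} [Group K] (h : Spor.IsoM K) : ∃ y : K, orderOf y = 2 ^ 2 := by
  obtain ⟨e⟩ := h
  obtain ⟨g, hg⟩ := Cfsg.Agent.H514.OC.Spor.m_facts.1
  refine ⟨e.symm (g ^ 3), ?_⟩
  have h1 : orderOf (e.symm (g ^ 3)) = orderOf (g ^ 3) := orderOf_injective e.symm.toMonoidHom e.symm.injective _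
  rw [h1, orderOf_pow_of_dvd (by norm_num) (by rw [hg]; norm_num), hg]
  norm_num

/-- no radical elements -/
theorem NoTE.of_noR {K : Type*} [Group K] [Finite K] [IsSimpleGroup K] {p : ℕ} (h : NoR p K) : NoTE p K :=
  fun x hx hR _ => h x hx (RC.of_re hR)

/-- an equivalence with the model -/
theorem exists_model {K : Type*} [Group K] (h : Spor.IsoM K) : Nonempty (K ≃* MG) := by
  obtain ⟨e⟩ := MonsterP.Equiv.equiv
  obtain ⟨f⟩ := h
  exact ⟨f.trans e⟩

theorem simple_model : IsSimpleGroup MG := by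
  obtain ⟨e⟩ := MonsterP.Equiv.equiv
  exact (MulEquiv.isSimpleGroup_congr e).1 Cfsg.Agent.MonsterP.Equiv.isM.1

theorem factorization_of {p n m : ℕ} (hp : p.Prime) (hn : m % p ≠ 0) : (p ^ n * m).factorization p = n := by
  have hm : m ≠ 0 := fun h => hn (by rw [h]; exact Nat.zero_mod p)
  rw [Nat.factorization_mul (pow_ne_zero _ hp.ne_zero) hm, Finsupp.add_apply, hp.factorization_pow,
    Finsupp.single_eq_same, Nat.factorization_eq_zero_of_not_dvd (fun h => hn (Nat.mod_eq_zero_of_dvd h)), add_zero]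

theorem fac_card : (808017424794512875886459904961710757005754368000000000 : ℕ).factorization 2 = 46 := by
  rw [show (808017424794512875886459904961710757005754368000000000 : ℕ) =
    2 ^ 46 * 11482618231106483731969943632999939453125 by norm_num]
  exact factorization_of Nat.prime_two (by norm_num)

/-- the V4 trick, with Theorem O for `t = 2` -/
theorem of_num {K : Type*} [Group K] [Finite K] [IsSimpleGroup K] (e : K ≃* MG) {p : ℕ} [hp : Fact p.Prime]
    (hcard : Nat.card K = 808017424794512875886459904961710757005754368000000000) (hp2 : p ≠ 2)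
    (hsq : ¬ p ^ 2 ∣ 808017424794512875886459904961710757005754368000000000)
    (hO : ThO p K) (hnum : ∀ a j : ℕ, a + j = 46 → p ∣ 2 ^ a - 1 → 2 ^ j ∣ p - 1 → False) : NoTE p K := by
  have hs := simple_model
  have hfin := finite
  have hcyc : ∀ Q : Sylow p K, IsCyclic (Q : Subgroup K) := cyclic_of_card (by rw [hcard]; exact hsq)
  have hna : ¬ IsMulCommutative K := by
    intro hc
    let _ : CommGroup K := { (inferInstance : Group K) with mul_comm := hc.is_comm.comm }
    have h1 : (Nat.card K).Prime := IsSimpleGroup.prime_card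
    rw [hcard] at h1
    norm_num at h1
  refine NoTE.of_vfour hna (by rw [hcard]; norm_num) hp2 hcyc fun x hx hR => ?_
  have hodd : ¬ 2 ∣ Nat.card (centralizer ({x} : Set K)) := by
    rw [Cfsg.Agent.H301.SY.card_centralizer e x]
    intro hd
    have : Fact (Nat.Prime 2) := ⟨Nat.prime_two⟩
    obtain ⟨t, ht⟩ := exists_prime_orderOf_dvd_card' 2 hd
    refine ncomm hp.out hp2 (x := e x) (by rw [MulEquiv.orderOf_eq, hx]) (RC.of_re (hR.map e)) (t := (t : MG))
      (by rw [Subgroup.orderOf_coe, ht]) ?_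
    exact (mem_centralizer_singleton_iff.1 t.2).symm
  refine not_fix2_num hcyc hO hp2 hx hR hodd (Or.inr ?_)
  have h2 : Fact (Nat.Prime 2) := ⟨Nat.prime_two⟩
  obtain ⟨T⟩ : Nonempty (Sylow 2 K) := inferInstance
  refine ⟨T, fun a j n hT ha hj _ _ _ _ => hnum a j ?_ ha hj⟩
  have h3 : Nat.card T = 2 ^ 46 := by
    rw [Sylow.card_eq_multiplicity, hcard, fac_card]
  rw [h3] at hT
  exact (Nat.pow_right_injective (le_refl 2) hT).symm

theorem num_of {p : ℕ} (h : ∀ j ∈ List.range 47, (2 ^ j ∣ p - 1) → ¬ p ∣ 2 ^ (46 - j) - 1) (a j : ℕ) (haj : a + j = 46)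
    (ha : p ∣ 2 ^ a - 1) (hj : 2 ^ j ∣ p - 1) : False := by
  refine h j (List.mem_range.2 (by omega)) hj ?_
  rwa [show 46 - j = a by omega]

/-- **the row `M` of S3854** -/
theorem noTE_m {K : Type*} [Group K] [Finite K] [IsSimpleGroup K] (h : Cfsg.Spor.IsoM K) {p : ℕ} [Fact p.Prime]
    (hp : 5 ≤ p) (hb : Cfsg.Agent.H301.SY.Blk p K) (hO : Cfsg.Agent.H301.SY.ThO p K) :
    Cfsg.Agent.H959.T5.NoTE p K := by
  have hpp : p.Prime := Fact.out
  have hcard := card_eq h
  have hfin := finite
  have hs := simple_model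
  obtain ⟨e⟩ := exists_model h
  intro x hx hR hY
  have hpd : p ∣ 2 ^ 46 * 3 ^ 20 * 5 ^ 9 * 7 ^ 6 * 11 ^ 2 * 13 ^ 3 * 17 * 19 * 23 * 29 * 31 * 41 * 47 * 59 * 71 := by
    have : p ∣ Nat.card K := hx ▸ orderOf_dvd_natCard x
    rw [hcard] at this
    norm_num
    exact this
  have key : p = 5 ∨ p = 7 ∨ p = 11 ∨ p = 13 ∨ p = 17 ∨ p = 19 ∨ p = 23 ∨ p = 29 ∨ p = 31 ∨ p = 41 ∨ p = 47 ∨
      p = 59 ∨ p = 71 := by
    rw [hpp.dvd_mul, hpp.dvd_mul, hpp.dvd_mul, hpp.dvd_mul, hpp.dvd_mul, hpp.dvd_mul, hpp.dvd_mul, hpp.dvd_mul,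
      hpp.dvd_mul, hpp.dvd_mul, hpp.dvd_mul, hpp.dvd_mul, hpp.dvd_mul, hpp.dvd_mul] at hpd
    have key : ∀ {q : ℕ}, q.Prime → p ∣ q → p = q := fun hq h => (Nat.prime_dvd_prime_iff_eq hpp hq).1 h
    rcases hpd with (((((((((((((h1 | h1) | h1) | h1) | h1) | h1) | h1) | h1) | h1) | h1) | h1) | h1) | h1) | h1) | h1
    · have := key Nat.prime_two (hpp.dvd_of_dvd_pow h1); omega
    · have := key Nat.prime_three (hpp.dvd_of_dvd_pow h1); omega
    · have := key Nat.prime_five (hpp.dvd_of_dvd_pow h1); omega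
    · have := key (by norm_num) (hpp.dvd_of_dvd_pow h1); omega
    · have := key (by norm_num) (hpp.dvd_of_dvd_pow h1); omega
    · have := key (by norm_num) (hpp.dvd_of_dvd_pow h1); omega
    · have := key (by norm_num) h1; omega
    · have := key (by norm_num) h1; omega
    · have := key (by norm_num) h1; omega
    · have := key (by norm_num) h1; omega
    · have := key (by norm_num) h1; omega
    · have := key (by norm_num) h1; omega
    · have := key (by norm_num) h1; omega
    · have := key (by norm_num) h1; omega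
    · have := key (by norm_num) h1; omega
  obtain ⟨y, hy⟩ := exists_four h
  rcases key with rfl | rfl | rfl | rfl | rfl | rfl | rfl | rfl | rfl | rfl | rfl | rfl | rfl
  · exact NoTE.congr e (NoTE.of_noR noR_five) x hx hR hY
  · exact NoTE.congr e (NoTE.of_noT (by norm_num) noT_seven) x hx hR hY
  · exact NoTE.congr e (NoTE.of_noR noR_eleven) x hx hR hY
  · exact NoTE.congr e (NoTE.of_noT (by norm_num) noT_thirteen) x hx hR hY
  · exact of_num e hcard (by norm_num) (by norm_num) hO (num_of (by decide +kernel)) x hx hR hY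
  · exact NoTE.of_orderOf (cyclic_of_card (by rw [hcard]; norm_num)) hb (by norm_num) hy (by norm_num) x hx hR hY
  · exact NoTE.of_orderOf (cyclic_of_card (by rw [hcard]; norm_num)) hb (by norm_num) hy (by norm_num) x hx hR hY
  · exact of_num e hcard (by norm_num) (by norm_num) hO (num_of (by decide +kernel)) x hx hR hY
  · exact NoTE.of_orderOf (cyclic_of_card (by rw [hcard]; norm_num)) hb (by norm_num) hy (by norm_num) x hx hR hY
  · exact of_num e hcard (by norm_num) (by norm_num) hO (num_of (by decide +kernel)) x hx hR hY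
  · exact NoTE.of_orderOf (cyclic_of_card (by rw [hcard]; norm_num)) hb (by norm_num) hy (by norm_num) x hx hR hY
  · exact NoTE.of_orderOf (cyclic_of_card (by rw [hcard]; norm_num)) hb (by norm_num) hy (by norm_num) x hx hR hY
  · exact NoTE.of_orderOf (cyclic_of_card (by rw [hcard]; norm_num)) hb (by norm_num) hy (by norm_num) x hx hR hY

end Cfsg.Agent.H196.T5.M
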