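import Cfsg.Agent.H109.NrM
import Cfsg.Agent.H109.NrThirteen
import Cfsg.Agent.H847.RadFiveM
import Cfsg.Agent.H961.SevM
import Cfsg.Agent.H959.T5.Trans

/-!
# The Monster: the primes 5, 7, 11, 13 of the row of S3854 (helper196, for helper959)
-/

set_option autoImplicit false
set_option maxRecDepth 100000

namespace Cfsg.Agent.H196.T5.M

open Cfsg Subgroup
open Cfsg.Agent.H459.Rad Cfsg.Agent.H459.Iface Cfsg.Agent.H839.Rad
open Cfsg.Agent.H109.Nr

/-- no element `x` of order `p` with `RC (conj x)` -/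
def NoR (p : ℕ) (K : Type*) [Group K] : Prop := ∀ x : K, orderOf x = p → RC (MulAut.conj x) → False

/-- **The criterion of helper109 without the pair condition** : abelian Sylow `p`-subgroups of order `p ^ 2`, radical
elements commute with no involution, an element `y` of order `p` commuting with a four-group. -/
theorem noR_of_four {K : Type*} [Group K] [Finite K] {p : ℕ} (hp : p.Prime) (hp2 : p ≠ 2)
    (h3 : ¬ p ^ 3 ∣ Nat.card K)
    (hnc : ∀ x : K, orderOf x = p → RC (MulAut.conj x) → ∀ t : K, orderOf t = 2 → x * t ≠ t * x)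
    {y : K} (hy : orderOf y = p) (hyc : y ∉ center K)
    (hno : ∀ A : Subgroup ↥(centralizer ({y} : Set K)), (∀ a ∈ A, a * a = 1) → ∀ m, 1 ≤ m →
      Nat.card ↥A = 2 ^ m → ¬ p ∣ 2 ^ m - 1)
    {e f : K} (he : orderOf e = 2) (hf : orderOf f = 2) (hey : y * e = e * y) (hfy : y * f = f * y)
    (hef : e * f = f * e) (hne : e ≠ f) : NoR p K := by
  intro x hx h1
  have hpf : Fact p.Prime := ⟨hp⟩
  have hab := sylow_comm hp h3
  -- conjugate `x`
  have hxp : IsPGroup p ↥(zpowers x) := IsPGroup.of_card (n := 1) (by rw [Nat.card_zpowers, hx, pow_one])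
  have hyp : IsPGroup p ↥(zpowers y) := IsPGroup.of_card (n := 1) (by rw [Nat.card_zpowers, hy, pow_one])
  obtain ⟨P, hP⟩ := hxp.exists_le_sylow
  obtain ⟨P', hP'⟩ := hyp.exists_le_sylow
  obtain ⟨g, hg⟩ := MulAction.exists_smul_eq K P P'
  obtain ⟨x', hx'⟩ : ∃ x', x' = g * x * g⁻¹ := ⟨_, rfl⟩
  have hmem : x' ∈ P' := by
    have : g * x * g⁻¹ ∈ (P' : Subgroup K) := by
      rw [← hg, Sylow.coe_subgroup_smul]
      exact smul_mem_pointwise_smul x (MulAut.conj g) _ (hP (mem_zpowers x))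
    rw [hx']
    exact this
  have ho : orderOf x' = p := by rw [hx', ← MulAut.conj_apply, MulEquiv.orderOf_eq, hx]
  have hrc : RC (MulAut.conj x') := by rw [hx']; exact H839.Rad.rc_conj h1 g
  have hcomm : x' * y = y * x' := hab P' _ hmem _ (hP' (mem_zpowers y))
  have hxC : x' ∈ centralizer ({y} : Set K) := mem_centralizer_singleton_iff.2 hcomm
  have hyC : y ∈ centralizer ({y} : Set K) := mem_centralizer_singleton_iff.2 rfl
  have heC : e ∈ centralizer ({y} : Set K) := mem_centralizer_singleton_iff.2 hey.symm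
  have hfC : f ∈ centralizer ({y} : Set K) := mem_centralizer_singleton_iff.2 hfy.symm
  have htop : centralizer ({y} : Set K) ≠ ⊤ := by
    intro h1
    apply hyc
    rw [mem_center_iff]
    intro g
    exact mem_centralizer_singleton_iff.1 (h1 ▸ mem_top g)
  refine false_of_four (C := ↥(centralizer ({y} : Set K))) (x := ⟨x', hxC⟩) (y := ⟨y, hyC⟩) (e := ⟨e, heC⟩)
    (f := ⟨f, hfC⟩) hp hp2 (by rw [Subgroup.orderOf_mk, ho]) (by rw [Subgroup.orderOf_mk, hy]) ?_ ?_ ?_ ?_ ?_ ?_
    (by rw [Subgroup.orderOf_mk, he]) (by rw [Subgroup.orderOf_mk, hf]) (Subtype.ext hef) ?_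
  · intro g
    exact Subtype.ext (mem_centralizer_singleton_iff.1 g.2)
  · intro hxy
    obtain ⟨k, hk⟩ := mem_zpowers_iff.1 hxy
    have hk' : y ^ k = x' := congrArg Subtype.val hk
    refine hnc x' ho hrc e he ?_
    rw [← hk']
    exact (show Commute y e from hey).zpow_left k
  · intro h
    exact h3 (h.trans (card_subgroup_dvd_card _))
  · exact H839.Rad.mem_rad hrc htop hxC
  · intro t ht hc
    exact hnc x' ho hrc t (by rw [Subgroup.orderOf_coe, ht]) (congrArg Subtype.val hc)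
  · intro A hA hAn hAne
    by_contra hcon
    push Not at hcon
    obtain ⟨m, hm1, hm, hd⟩ := exists_pow (x := (⟨x', hxC⟩ : ↥(centralizer ({y} : Set K)))) hp
      (by rw [Subgroup.orderOf_mk, ho]) hA hAn hAne (fun a ha hc => by
        by_contra h
        exact hcon a ha h hc)
    exact hno A hA m hm1 hm hd
  · intro h
    exact hne (congrArg Subtype.val h)

open Cfsg.Agent.MonsterX Cfsg.Agent.MonsterX.InstData Cfsg.Agent.MonsterX.MainPack Cfsg.Agent.MonsterU
open Cfsg.Agent.MonsterP Cfsg.Agent.MonsterN Cfsg.Agent.LThreeMB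
open Cfsg.Agent.MonsterX.MainBasic Cfsg.Agent.MonsterX.MainSimple Cfsg.Agent.MonsterX.Model
open Cfsg.Agent.MonsterU.Lam2 Cfsg.Agent.MonsterU.TwoCls
open Cfsg.Agent.BpTab Cfsg.Agent.BpSpor.MBigModel Cfsg.Agent.BpSpor Cfsg.Agent.H109.Nr.M

theorem noR_eleven : NoR 11 MG := by
  have hfin := finite
  obtain ⟨y, w, hy, hw, hyz, hyw, hzw, hne⟩ := exists_eleven
  refine noR_of_four (by norm_num) (by norm_num) (by rw [card_M]; norm_num)
    (fun x hx h t ht => ncomm (by norm_num) (by norm_num) hx h ht) hy ?_ ?_ orderOf_zz hw hyz hyw hzw hne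
  · rw [center_model, Subgroup.mem_bot]
    rintro rfl
    rw [orderOf_one] at hy
    norm_num at hy
  · intro A hA m hm1 hm
    exact MBigEleven.noTwo hy A hA m hm1 (hm ▸ dvd_rfl)

theorem noR_five : NoR 5 ↥InstData.M.G := fun _ hx h => Cfsg.Agent.H847.RadFive.false_model hx h

theorem noT_thirteen : Cfsg.Agent.H301.SY.NoT 13 MG := by
  have hfin := finite
  intro x hx hR hT
  obtain ⟨w, w₁, g, Q, D, hQ, hc⟩ := Cfsg.Agent.H109.Nr.T.data_thirteen hx hR
  exact Cfsg.Agent.H301.SY.noT_of_sylow D (by norm_num) hQ hc x hx hR hT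

end Cfsg.Agent.H196.T5.M
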