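import Cfsg.Agent.H541.NoyaRee
import Cfsg.Agent.CpAutRee.Ree
import Cfsg.Agent.H959.T5.Tools

/-!
# S3854: the small Ree groups (helper196, task 2807)

A translation of the row of S3846 (`H541.NoyaRee`, helper541).
-/

set_option autoImplicit false

namespace Cfsg.Agent.H196.T5.Ree

open Subgroup Cfsg.Agent.H459.Rad Cfsg.Agent.H459.Iface Cfsg.Agent.H628.ZRankOne Cfsg.Agent.H301.SY
  Cfsg.Agent.LieRecognition.ReeAbs Cfsg.Agent.LieRecognition.ReeSylowThree
  Cfsg.Agent.LieRecognition.ReeSplit Cfsg.Agent.LieRecognition Cfsg.Agent.H71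
  Cfsg.Agent.H541.NoyaRee Cfsg.Agent.H959.T5 Cfsg.Agent.H959.Rad3

section abs

variable {K : Type*} [Field K] {L : Type*} [Group L] {m : ℕ} {U : K → K → K → L} {h : Kˣ → L} {n : L} [Fintype K]

/-- an element of prime order `p ≥ 5`, `p ≠ 7`, `p ∤ q³ (q² - 1)` normalises no nontrivial `2`-subgroup -/
theorem not_fix2_abs [Finite L] [hL : IsSimpleGroup L] {p : ℕ} [hp : Fact p.Prime] (hp5 : 5 ≤ p) (hp7 : p ≠ 7)
    (hK : Fintype.card K = 3 ^ (2 * m + 1)) (D : Data m U h n) (hpq : ¬ p ∣ (Fintype.card K) ^ 2 - 1)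
    (hpq1 : ¬ p ∣ (Fintype.card K) ^ 3 * (Fintype.card K - 1)) {x : L} (hx : orderOf x = p) :
    ¬ FixR 2 (MulAut.conj x) := by
  classical
  rintro ⟨R, hR1, hR, hRx⟩
  have hfact : Fact (Nat.Prime 2) := ⟨Nat.prime_two⟩
  obtain ⟨hnc, ht1⟩ := centralizer_ne_top hK D
  have hna : ∃ a b : L, a * b ≠ b * a := by
    by_contra hcon
    push Not at hcon
    exact hnc (mem_center_iff.2 fun g => hcon g _)
  have hS8 : ∀ S : Sylow 2 L, Nat.card (S : Subgroup L) = 8 ∧ ∀ x ∈ (S : Subgroup L), x * x = 1 := fun S =>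
    D.sylow_two hK (LieRecognition.ReeFinal.card_of_data D hK) S
  obtain ⟨S, hRS⟩ := hR.exists_le_sylow
  -- `x` centralises `R`
  have hcent : ∀ a ∈ R, x * a = a * x := by
    refine centralises_of_card hx Nat.prime_two (by omega) ?_ hR (fun a ha => hRx a ha)
    intro i hi hdvd hmod
    have h1 : 2 ^ i ∣ Nat.card S := S.pow_dvd_card_of_pow_dvd_card hdvd
    rw [(hS8 S).1] at h1
    have h2 : i ≤ 3 := by
      have h3 : 2 ^ i ∣ 2 ^ 3 := h1
      exact (Nat.pow_dvd_pow_iff_le_right (by norm_num)).1 h3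
    have h3 : p ∣ 2 ^ i - 1 := (Nat.modEq_iff_dvd' Nat.one_le_two_pow).1 hmod.symm
    interval_cases i
    · have := Nat.le_of_dvd (by norm_num) h3
      omega
    · have := Nat.le_of_dvd (by norm_num) h3
      omega
    · have h4 : p = 7 := (Nat.prime_dvd_prime_iff_eq hp.out (by norm_num)).1 h3
      exact hp7 h4
  -- an involution of `R`
  obtain ⟨r, hr, hr1⟩ : ∃ r ∈ R, r ≠ 1 := by
    by_contra hcon
    push Not at hcon
    exact hR1 ((Subgroup.eq_bot_iff_forall R).2 hcon)
  have hr2 : orderOf r = 2 := orderOf_eq_prime (by rw [pow_two]; exact (hS8 S).2 r (hRS hr)) hr1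
  have ht : h (-1) * h (-1) = 1 := by rw [← D.h_mul, neg_mul_neg, one_mul, D.h_one]
  have hto : orderOf (h (-1)) = 2 := orderOf_eq_prime (by rw [pow_two, ht]) ht1
  obtain ⟨g, hg⟩ := Cfsg.Agent.CpAutRee.Ree.exists_conj hna hS8 hr2 hto
  obtain ⟨e⟩ := D.centralizer_iso hK
  have hodd : Odd (Fintype.card K) := by
    rw [hK]
    exact Odd.pow (by decide)
  have hpc := Cfsg.Agent.CTwoTab.card_psl_two (F := K) hodd
  have h1 : g * x * g⁻¹ ∈ centralizer ({h (-1)} : Set L) := by
    rw [mem_centralizer_singleton_iff, ← hg]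
    calc g * x * g⁻¹ * (g * r * g⁻¹) = g * (x * r) * g⁻¹ := by group
      _ = g * r * g⁻¹ * (g * x * g⁻¹) := by rw [hcent r hr]; group
  have h2 : orderOf (g * x * g⁻¹) = p := by
    rw [← hx]
    exact orderOf_injective (MulAut.conj g).toMonoidHom (MulAut.conj g).injective x
  have h3 : p ∣ Nat.card (centralizer ({h (-1)} : Set L)) := by
    rw [← h2]
    exact Subgroup.orderOf_dvd_natCard _ h1
  rw [Nat.card_congr e.toEquiv, Nat.card_prod] at h3
  have h4 : Nat.card (Multiplicative (ZMod 2)) = 2 := by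
    rw [Nat.card_eq_fintype_card]
    rfl
  rw [h4, ← hpc] at h3
  rcases (hp.out.dvd_mul).1 h3 with h5 | h5
  · apply hpq1
    exact (h5.trans (dvd_pow_self _ (by norm_num))).mul_right _
  · exact hpq h5

end abs

/-- **The row of the small Ree groups.** -/
theorem noT_ree {K : Type*} [Group K] [Finite K] [IsSimpleGroup K] (h : Cfsg.Lie.IsoRee K) {p : ℕ}
    [hp : Fact p.Prime] (hp5 : 5 ≤ p) (hg : Cfsg.Agent.H301.SY.Gw 3 K) : Cfsg.Agent.H959.T5.NoT p K := by
  obtain ⟨F, iF, iF', m, hm, hK, ⟨f⟩⟩ := h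
  obtain ⟨θ, c⟩ := Cfsg.Agent.ChevalleyStructure.Ree.Normal.exists_ctx hK
  have hs := (Cfsg.Agent.S1073.result hm hK).1
  have hfin : Finite ↥(Cfsg.Lie.twistedG2 F (3 ^ m)) := Finite.of_injective f.symm f.symm.injective
  have D := Cfsg.Agent.ChevalleyStructure.Ree.Data.data c
  have hcycL : ∀ P : Sylow p ↥(Cfsg.Lie.twistedG2 F (3 ^ m)),
      IsCyclic (P : Subgroup ↥(Cfsg.Lie.twistedG2 F (3 ^ m))) :=
    fun P => Cfsg.Agent.S1156.result hm hK (by omega) P
  have hfact3 : Fact (Nat.Prime 3) := ⟨Nat.prime_three⟩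
  intro x hx hR hY
  -- `x` is inner
  have h1 := FldAut.fldG_mul (1 : F ≃+* F) 1 (3 ^ m)
  rw [mul_one] at h1
  obtain ⟨g, hg1⟩ := inner_abs hp5 hm hK _ (FldAut.reeFld c) (mul_eq_left.1 h1.symm)
    (fun σ τ => FldAut.fldG_mul σ τ _) hcycL (x := Cfsg.Agent.H459.Rad.tr f x) (by rw [orderOf_tr, hx]) (hR.tr f)
  obtain ⟨hnc, ht1⟩ := centralizer_ne_top hK (Cfsg.Agent.ChevalleyStructure.Ree.Data.data c)
  have hZ' : center ↥(Cfsg.Lie.twistedG2 F (3 ^ m)) = ⊥ := by
    rcases (inferInstance : (center ↥(Cfsg.Lie.twistedG2 F (3 ^ m))).Normal).eq_bot_or_eq_top with h1 | h1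
    · exact h1
    · exact absurd (h1 ▸ mem_top _) hnc
  have hZ : center K = ⊥ := by
    rw [eq_bot_iff]
    intro z hz
    have h1 : f z ∈ center ↥(Cfsg.Lie.twistedG2 F (3 ^ m)) := by
      rw [mem_center_iff] at hz ⊢
      intro y
      have h2 := congrArg f (hz (f.symm y))
      rwa [map_mul, map_mul, f.apply_symm_apply] at h2
    rw [hZ', mem_bot] at h1
    rw [mem_bot]
    exact f.injective (h1.trans (map_one f).symm)
  have hna : ¬ IsMulCommutative K := by
    intro h1
    have h2 : center K = ⊤ := by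
      rw [eq_top_iff]
      intro z _
      rw [mem_center_iff]
      intro y
      exact h1.is_comm.comm y z
    rw [hZ] at h2
    exact bot_ne_top h2
  obtain ⟨y, hy⟩ : ∃ y : K, x = MulAut.conj y := by
    refine ⟨f.symm g, ?_⟩
    ext a
    have h1 : f (x (f.symm (f a))) = g * f a * g⁻¹ := by
      have h2 := DFunLike.congr_fun hg1 (f a)
      rwa [tr_apply, MulAut.conj_apply] at h2
    rw [f.symm_apply_apply] at h1
    rw [MulAut.conj_apply]
    apply f.injective
    rw [h1, map_mul, map_mul, map_inv, f.apply_symm_apply]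
  subst hy
  have hyo : orderOf y = p := by
    rw [← hx]
    exact (orderOf_injective (MulAut.conj : K →* MulAut K) (conj_injective hZ) y).symm
  have hYE : TE y := TE.of_t2 hZ hY
  have hzo : orderOf (f y) = p := by
    rw [← hyo]
    exact orderOf_injective f.toMonoidHom f.injective y
  have hcyc : ∀ P : Sylow p K, IsCyclic (P : Subgroup K) := by
    intro P
    have hP : IsPGroup p ↥((P : Subgroup K).map f.toMonoidHom) := P.isPGroup'.map _
    obtain ⟨Q, hQ⟩ := hP.exists_le_sylow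
    have := hcycL Q
    have h2 : IsCyclic ↥((P : Subgroup K).map f.toMonoidHom) :=
      isCyclic_of_injective (Subgroup.inclusion hQ) (Subgroup.inclusion_injective hQ)
    have h3 : IsCyclic ↥(map (↑f : K →* ↥(Cfsg.Lie.twistedG2 F (3 ^ m))) ↑P) := h2
    exact isCyclic_of_surjective (f.subgroupMap (P : Subgroup K)).symm
      (f.subgroupMap (P : Subgroup K)).symm.surjective
  have hcard := card_eq (Cfsg.Agent.ChevalleyStructure.Ree.Data.data c)
  have hq27 : 27 ≤ Fintype.card F := by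
    rw [hK]
    calc 27 = 3 ^ 3 := by norm_num
      _ ≤ _ := Nat.pow_le_pow_right (by norm_num) (by omega)
  by_cases hpq : p ∣ (Fintype.card F) ^ 2 - 1
  · -- the centralizer of an involution
    have hLw := lw_abs hp5 hm hK (Cfsg.Agent.ChevalleyStructure.Ree.Data.data c) hpq
    have hRf : RC (MulAut.conj (f y)) := by
      rw [← tr_conj]
      exact hR.tr f
    exact hLw.false hzo (RE.of_rc hRf) hcycL
  · have hpK : p ∣ (Fintype.card F) ^ 3 * (Fintype.card F - 1) * ((Fintype.card F) ^ 3 + 1) := by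
      rw [← hcard, ← hzo]
      exact orderOf_dvd_natCard _
    have hp3 : p ≠ 3 := by omega
    have hfac1 : (Fintype.card F) ^ 2 - 1 = (Fintype.card F + 1) * (Fintype.card F - 1) := by
      have := Nat.sq_sub_sq (Fintype.card F) 1
      rwa [one_pow] at this
    have hp1 : ¬ p ∣ (Fintype.card F) ^ 3 * (Fintype.card F - 1) := by
      intro h2
      rcases (hp.out.dvd_mul).1 h2 with h3 | h3
      · rw [hK] at h3
        exact hp3 ((Nat.prime_dvd_prime_iff_eq hp.out Nat.prime_three).1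
          (hp.out.dvd_of_dvd_pow (hp.out.dvd_of_dvd_pow h3)))
      · exact hpq (by rw [hfac1]; exact h3.mul_left _)
    have hq0 : Fintype.card F ≤ (Fintype.card F) ^ 2 := Nat.le_self_pow (by norm_num) _
    have hfac3 : (Fintype.card F) ^ 3 + 1 = (Fintype.card F + 1) * ((Fintype.card F) ^ 2 - Fintype.card F + 1) := by
      zify [hq0]
      ring
    have hp2 : p ∣ (Fintype.card F) ^ 2 - Fintype.card F + 1 := by
      have h2 := ((hp.out.dvd_mul).1 hpK).resolve_left hp1
      rw [hfac3] at h2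
      refine ((hp.out.dvd_mul).1 h2).resolve_left fun h3 => hpq ?_
      rw [hfac1]
      exact h3.mul_right _
    have hnf : ¬ FixR 3 (MulAut.conj (f y)) :=
      not_fixR_abs hK (Cfsg.Agent.ChevalleyStructure.Ree.Data.data c) hp1 hzo
    have hnfK : ¬ FixR 3 (MulAut.conj y) := by
      intro h2
      apply hnf
      refine FixR.of_tr f.symm ?_
      rwa [tr_conj, f.symm_apply_apply]
    have hodd : Odd (Fintype.card F) := by
      rw [hK]
      exact Odd.pow (by decide)
    have h2K : 2 ∣ Nat.card K := by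
      rw [Nat.card_congr f.toEquiv, hcard]
      obtain ⟨t, ht⟩ := hodd
      exact ((show 2 ∣ Fintype.card F - 1 from ⟨t, by omega⟩).mul_left _).mul_right _
    by_cases hp7 : p = 7
    · subst hp7
      rw [hK] at hp2
      exact false_of_crow_odd hna h2K (by norm_num) (by norm_num) hg hyo hYE hcyc hnfK
        (Or.inr ((zc hm hK hp2).congr f))
    · -- `x` normalises no nontrivial `2`-subgroup
      refine false_of_not_fix2 hna h2K (by omega) hcyc hyo hYE ?_
      intro h2
      have h3 : FixR 2 (MulAut.conj (f y)) := by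
        refine FixR.of_tr f.symm ?_
        rwa [tr_conj, f.symm_apply_apply]
      exact not_fix2_abs hp5 hp7 hK (Cfsg.Agent.ChevalleyStructure.Ree.Data.data c) hpq hp1 hzo h3

end Cfsg.Agent.H196.T5.Ree
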