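import Cfsg.Agent.H541.NoyaSz
import Cfsg.Agent.H415.IRow.Sz
import Cfsg.Agent.H959.T5.Tools

/-!
# S3854: the Suzuki groups (helper196, task 2807)

A translation of the row of S3846 (`H541.NoyaSz`, helper541) and of `H415.IRow.Sz` (helper415).
-/

set_option autoImplicit false

namespace Cfsg.Agent.H196.T5.Sz

open Subgroup MulAction Cfsg.Agent.H101.SzAbs Cfsg.Agent.H101.SzAbs.Geo Cfsg.Agent.H459.Rad
  Cfsg.Agent.H459.Iface Cfsg.Agent.H301.SY Cfsg.Agent.LieExceptional Cfsg.Agent.LieExceptional.SuzukiTori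
  Cfsg.Agent.H541.NoyaSz Cfsg.Agent.H959.Rad3 Cfsg.Agent.H959.T5

section abs

variable {G Ω : Type*} [Group G] [MulAction G Ω] {P : Ω → Subgroup G}
variable [Finite G] [Finite Ω] {q : ℕ}

/-- **an element of order `p ∣ q - 1`**: `TE` fails -/
theorem split_false (h : Geo G Ω P) (H : Hyp G Ω q) (hP : ∀ a x, x ∈ P a ↔ x = 1 ∨ ∀ b, x • b = b ↔ b = a)
    (h4 : ∃ a, ∃ u ∈ P a, u * u ≠ 1) {p : ℕ} (hp : p.Prime) (hp5 : 5 ≤ p) (hpq : p ∣ q - 1) {x : G}
    (hx : orderOf x = p) (hY : TE x) : False := by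
  classical
  have hfact : Fact p.Prime := ⟨hp⟩
  have h8 := H.eight_le
  have hx1 : x ≠ 1 := by
    intro h1
    rw [h1, orderOf_one] at hx
    exact hp.one_lt.ne hx
  have hodd : Odd (orderOf x) := by rw [hx]; exact hp.odd_of_ne_two (by omega)
  have hpq2 : ¬ p ∣ q ^ 2 + 1 := fun h1 => (H.prime_dvd_facts hp h1).2 (hpq.mul_left _)
  -- a fixed point
  obtain ⟨a, ha⟩ : ∃ a : Ω, x • a = a := by
    by_contra hcon
    push Not at hcon
    have h1 : x ∈ Hyp.free G Ω := Hyp.mem_free_iff.2 hcon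
    exact hpq2 (H.dvd_of_free h1 hp (dvd_of_eq hx.symm))
  -- a point which is not fixed
  obtain ⟨c, hc⟩ : ∃ c : Ω, x • c ≠ c := by
    by_contra hcon
    push Not at hcon
    have h1 := H.three x hx1
    have h2 : fixedBy Ω x = Set.univ := Set.eq_univ_of_forall fun b => mem_fixedBy.2 (hcon b)
    rw [h2, Nat.card_congr (Equiv.Set.univ Ω), H.card_set] at h1
    nlinarith
  -- the element of order four
  have htr : IsPretransitive G Ω := by
    have := H.two
    exact MulAction.isPretransitive_of_is_two_pretransitive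
  obtain ⟨a₀, u₀, hu₀, hu₀2⟩ := h4
  have hu : ∀ b : Ω, ∃ u ∈ P b, u * u ≠ 1 := by
    intro b
    obtain ⟨g, hg⟩ := exists_smul_eq G a₀ b
    refine ⟨g * u₀ * g⁻¹, hg ▸ h.conj g a₀ u₀ hu₀, fun h1 => hu₀2 ?_⟩
    calc u₀ * u₀ = g⁻¹ * (g * u₀ * g⁻¹ * (g * u₀ * g⁻¹)) * g := by group
      _ = 1 := by rw [h1]; group
  obtain ⟨u, hua, hu2⟩ := hu a
  have hu1 : u ≠ 1 := by
    rintro rfl
    exact hu2 (one_mul 1)
  obtain ⟨g, hg⟩ := exists_smul_eq G a c
  set v := g * u * g⁻¹ with hv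
  have hvc : v ∈ P c := hg ▸ h.conj g a u hua
  have hv2 : v * v ≠ 1 := by
    intro h1
    apply hu2
    calc u * u = g⁻¹ * (v * v) * g := by rw [hv]; group
      _ = 1 := by rw [h1]; group
  have hv1 : v ≠ 1 := by
    intro h1
    apply hv2
    rw [h1, one_mul]
  have hvp : ∀ d : Ω, v • d = d → d = c := fun d hd => h.free c d v hvc hd hv1
  have hvvp : ∀ d : Ω, (v * v) • d = d → d = c := fun d hd => h.free c d _ ((P c).mul_mem hvc hvc) hd hv2
  -- solvability
  have hv2pow : ∃ k : ℕ, v ^ 2 ^ k = 1 := by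
    obtain ⟨k, hk⟩ := (IsPGroup.iff_orderOf (p := 2)).1 (h.two c) ⟨v, hvc⟩
    rw [orderOf_mk] at hk
    exact ⟨k, by rw [← hk, pow_orderOf_eq_one]⟩
  have hD := hY v hv2pow
  set D : Subgroup G := closure ({x, v} : Set G) with hDdef
  have hxD : x ∈ D := subset_closure (by simp)
  have hvD : v ∈ D := subset_closure (by simp)
  have hnt : Nontrivial D := ⟨⟨⟨x, hxD⟩, 1, fun h0 => hx1 (congrArg Subtype.val h0)⟩⟩
  obtain ⟨A, hAn, hA1, hAc⟩ := Cfsg.Agent.H410.EndSz.exists_abelian_normal hD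
  have hconj : ∀ d ∈ D, ∀ y : D, y ∈ A → ∃ z : D, z ∈ A ∧ (z : G) = d * y * d⁻¹ := fun d hd y hy =>
    ⟨⟨d, hd⟩ * y * ⟨d, hd⟩⁻¹, hAn.conj_mem y hy ⟨d, hd⟩, rfl⟩
  have hcomm : ∀ y z : D, y ∈ A → z ∈ A → (y : G) * z = z * y := fun y z hy hz => congrArg Subtype.val (hAc y hy z hz)
  by_cases hcase : ∃ y : D, y ∈ A ∧ y ≠ 1 ∧ ∃ c, (y : G) ∈ P c
  · obtain ⟨y, hy, hy1, d, hyd⟩ := hcase
    have hy1' : (y : G) ≠ 1 := fun h0 => hy1 (Subtype.ext h0)
    have key : ∀ t ∈ D, t • d = d := by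
      intro t htD
      obtain ⟨z, hz, hzy⟩ := hconj t htD y hy
      have h4 : (z : G) ∈ P d := h.cent d y hyd hy1' z (hcomm z y hz hy)
      have h5 : (z : G) ∈ P (t • d) := by
        rw [hzy]
        exact h.conj t d y hyd
      have hz1 : (z : G) ≠ 1 := by
        rw [hzy]
        intro h0
        apply hy1'
        calc (y : G) = t⁻¹ * (t * y * t⁻¹) * t := by group
          _ = 1 := by rw [h0]; group
      exact (h.free _ d z h5 (h.le d z h4) hz1).symm
    have h5 := hvp d (key v hvD)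
    rw [h5] at key
    exact hc (key x hxD)
  · push Not at hcase
    obtain ⟨y, hyA, hy1⟩ := A.ne_bot_iff_exists_ne_one.1 hA1 |> fun ⟨y, hy⟩ => (⟨y, y.2, fun h0 => hy (Subtype.ext h0)⟩ :
      ∃ y : D, y ∈ A ∧ y ≠ 1)
    have hyP : ∀ d, (y : G) ∉ P d := hcase y hyA hy1
    have hy1' : (y : G) ≠ 1 := fun h0 => hy1 (Subtype.ext h0)
    have hyodd : Odd (orderOf (y : G)) := odd_of_notMem h hyP
    by_cases hfix : ∃ d : Ω, (y : G) • d = d
    · -- two fixed points
      obtain ⟨d, hd⟩ := hfix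
      obtain ⟨e, he, hed⟩ : ∃ e : Ω, (y : G) • e = e ∧ e ≠ d := by
        by_contra hcon
        push Not at hcon
        apply hyP d
        rw [hP]
        right
        intro b
        exact ⟨hcon b, fun hb => hb ▸ hd⟩
      have hfy : ∀ b : Ω, (y : G) • b = b → b = d ∨ b = e := by
        intro b hb
        by_contra hcon
        push Not at hcon
        exact hy1' (h.three y d e b hed.symm (Ne.symm hcon.2) (Ne.symm hcon.1) hd he hb)
      have key : ∀ t ∈ D, (t • d = d ∨ t • d = e) ∧ (t • e = d ∨ t • e = e) := by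
        intro t ht
        obtain ⟨z, hz, hzy⟩ := hconj t ht y hyA
        have hzc := hcomm y z hyA hz
        -- the fixed points of `z` are `t d`, `t e`
        have hz1 : (z : G) ≠ 1 := by
          rw [hzy]
          intro h0
          apply hy1'
          calc (y : G) = t⁻¹ * (t * y * t⁻¹) * t := by group
            _ = 1 := by rw [h0]; group
        have hzd : (z : G) • (t • d) = t • d := by
          rw [hzy, ← mul_smul]
          rw [show t * (y : G) * t⁻¹ * t = t * y by group, mul_smul, hd]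
        have hze : (z : G) • (t • e) = t • e := by
          rw [hzy, ← mul_smul]
          rw [show t * (y : G) * t⁻¹ * t = t * y by group, mul_smul, he]
        have hne : t • d ≠ t • e := fun h1 => hed ((smul_left_cancel_iff t).1 h1).symm
        have hfz : ∀ b : Ω, (z : G) • b = b → b = t • d ∨ b = t • e := by
          intro b hb
          by_contra hcon
          push Not at hcon
          exact hz1 (h.three z (t • d) (t • e) b hne (Ne.symm hcon.2) (Ne.symm hcon.1) hzd hze hb)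
        have h1 : (z : G) • ((y : G) • (t • d)) = (y : G) • (t • d) := by
          rw [← mul_smul, ← hzc, mul_smul, hzd]
        have h2 : (z : G) • ((y : G) • (t • e)) = (y : G) • (t • e) := by
          rw [← mul_smul, ← hzc, mul_smul, hze]
        obtain ⟨h5, h6⟩ := fix_of_odd hyodd (hfz _ h1) (hfz _ h2)
        exact ⟨hfy _ h5, hfy _ h6⟩
      have h5 := key v hvD
      have h6 : (v * v) • d = d ∧ (v * v) • e = e := by
        rw [mul_smul v v d, mul_smul v v e]
        rcases h5 with ⟨h1 | h1, h2 | h2⟩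
        · exact absurd ((smul_left_cancel_iff v).1 (h2.trans h1.symm)) hed
        · rw [h1, h1, h2, h2]; exact ⟨rfl, rfl⟩
        · rw [h1, h2, h1]; exact ⟨rfl, rfl⟩
        · exact absurd ((smul_left_cancel_iff v).1 (h2.trans h1.symm)) hed
      exact hed ((hvvp e h6.2).trans (hvvp d h6.1).symm)
    · push Not at hfix
      have hyf : (y : G) ∈ Hyp.free G Ω := Hyp.mem_free_iff.2 hfix
      have hxN : x ∈ normalizer ((centralizer ({(y : G)} : Set G) : Subgroup G) : Set G) := by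
        obtain ⟨z, hz, hzy⟩ := hconj x hxD y hyA
        refine H.ti hyf x y (mem_centralizer_singleton_iff.2 rfl) hy1' ?_
        rw [← hzy]
        exact mem_centralizer_singleton_iff.2 (hcomm z y hz hyA)
      obtain ⟨n, hn1, hn4, -, -, hn, -⟩ := H.data hyf
      have h5 : p ∣ n * Nat.card (centralizer ({(y : G)} : Set G)) := by
        rw [← hn, ← hx]
        exact Subgroup.orderOf_dvd_natCard _ hxN
      rcases (hp.dvd_mul).1 h5 with h6 | h6
      · have := Nat.le_of_dvd (by omega) h6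
        omega
      · exact hpq2 (H.dvd_card_centralizer hyf hp h6)

end abs

section sz

variable {F : Type*} [Field F] [Fintype F] {m : ℕ}

/-- the automorphisms of order `p` with `T2` are inner -/
theorem inner (hm : 1 ≤ m) (hF : Fintype.card F = 2 ^ (2 * m + 1)) {p : ℕ} [hp : Fact p.Prime] (hp5 : 5 ≤ p)
    {x : MulAut ↥(Cfsg.Lie.Sz F (2 ^ (m + 1)))} (hx : orderOf x = p) (hY : Inv x) : ∃ g, x = MulAut.conj g := by
  have hp2 : p ≠ 2 := by omega
  obtain ⟨g, τ, hg⟩ := Cfsg.Agent.H70.SzAutThm.exists_conj_field hm hF x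
  have hcycS := fun P : Sylow p ↥(Cfsg.Lie.Sz F (2 ^ (m + 1))) => Cfsg.Agent.H67.SzOdd.sylow_cyclic hm hF hp2 P
  by_cases hτ : τ = 1
  · exact ⟨g, by rw [hg, hτ, map_one, mul_one]⟩
  exfalso
  have hxp : x ^ p = 1 := by rw [← hx, pow_orderOf_eq_one]
  have hZ := Cfsg.Agent.H67.SzOdd.center_sz hm hF
  obtain ⟨ho, k, hk⟩ := Cfsg.Agent.H410.EndFld.conj_std hZ
    (Φ := Cfsg.Agent.H70.SzOut.fieldAut (Cfsg.Agent.LieRecognition.SzMatrix.good hF))
    (fun σ τ => map_mul _ σ τ) (map_one _)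
    (fun τ g hg => Cfsg.Agent.H70.SzOut.eq_one_of_conj (Cfsg.Agent.LieRecognition.SzMatrix.good hF) hg) hp2 hxp hg hτ
    hcycS (d := 2) (by norm_num) (Cfsg.Agent.H628.ZRowSz.card_sz hF) (Cfsg.Agent.H628.ZRowSz.card_fixed hF τ) (by
      rw [Nat.card_eq_fintype_card, hF]
      intro h1
      exact hp2 ((Nat.prime_dvd_prime_iff_eq hp.out Nat.prime_two).1 (hp.out.dvd_of_dvd_pow h1)))
  have hinj : Function.Injective (MulAut.conj : ↥(Cfsg.Lie.Sz F (2 ^ (m + 1))) →* _) := conj_injective hZ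
  set R := Cfsg.Agent.ThreePrime.SzRel.ofGood (Cfsg.Agent.LieRecognition.SzMatrix.good hF) with hRdef
  set σ := Cfsg.Agent.H70.SzOut.fieldAut (Cfsg.Agent.LieRecognition.SzMatrix.good hF) τ with hσ
  have hσu : ∀ b : F, σ (R.u 0 b) = R.u 0 (τ b) := by
    intro b
    have h1 := Cfsg.Agent.H70.SzOut.fieldAut_u (Cfsg.Agent.LieRecognition.SzMatrix.good hF) τ 0 b
    rw [map_zero] at h1
    exact h1
  have hσw : σ R.w = R.w := Cfsg.Agent.H70.SzOut.fieldAut_w (Cfsg.Agent.LieRecognition.SzMatrix.good hF) τ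
  have hYσ : Inv σ := Cfsg.Agent.H415.IRow.Sz.inv_conj hY hk
  obtain ⟨b, hb⟩ : ∃ b : F, τ b ≠ b := by
    by_contra h1
    push Not at h1
    exact hτ (RingEquiv.ext h1)
  have hb2 : τ (τ b) ≠ b := by
    intro h1
    apply hb
    have h2 : ∀ n : ℕ, (τ ^ (2 * n)) b = b := by
      intro n
      induction n with
      | zero => rfl
      | succ n ih =>
        have h3 : (τ ^ (2 * (n + 1))) b = (τ ^ (2 * n)) (τ (τ b)) := by
          rw [mul_add, pow_add]
          rfl
        rw [h3, h1, ih]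
    obtain ⟨n, hn⟩ := hp.out.odd_of_ne_two hp2
    have h3 : (τ ^ p) b = τ b := by
      rw [hn, pow_succ']
      exact congrArg τ (h2 n)
    rw [← h3, ← ho, pow_orderOf_eq_one]
    rfl
  have hww := R.w_mul_w
  have hwN := R.w_not_mem_normalizer
  have hw1 : R.w ≠ 1 := by
    intro h1
    rw [h1] at hwN
    exact hwN (one_mem _)
  have huu : ∀ c : F, R.u 0 c * R.u 0 c = 1 := fun c => (R.u_sq_iff 0 c).2 rfl
  have hucomm : ∀ c e : F, R.u 0 c * R.u 0 e = R.u 0 e * R.u 0 c := by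
    intro c e
    rw [R.comm_iff, zero_mul]
  have hui : (R.u 0 b)⁻¹ = R.u 0 b := inv_eq_of_mul_eq_one_right (huu b)
  obtain ⟨D, hD, hD1, hD2, hD3⟩ := Cfsg.Agent.H415.IRow.Sz.exists_solvable' hYσ hinj
    (t := R.u 0 b * R.w * R.u 0 b) (by
    calc R.u 0 b * R.w * R.u 0 b * (R.u 0 b * R.w * R.u 0 b) =
        R.u 0 b * R.w * (R.u 0 b * R.u 0 b) * R.w * R.u 0 b := by group
      _ = R.u 0 b * (R.w * R.w) * R.u 0 b := by rw [huu]; group
      _ = 1 := by rw [hww, mul_one, huu])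
  -- transport to the permutation model
  obtain ⟨e⟩ := Cfsg.Agent.OddCyclic.ClaimC.SzIso.iso hm hF
  have hG := Cfsg.Agent.H101.SzGeo.geo hm hF
  have hfin : Finite ↥(Cfsg.Sz F m) := Finite.of_injective e e.injective
  have h11 : e.symm (R.u 0 1) ≠ 1 := by
    intro h1
    rw [map_eq_one_iff e.symm e.symm.injective] at h1
    exact R.u_ne_one one_ne_zero h1
  obtain ⟨a, ha⟩ := hG.fix (e.symm (R.u 0 1)) (by rw [← map_mul, huu, map_one]) h11
  have hua : ∀ c : F, e.symm (R.u 0 c) ∈ Cfsg.Agent.H101.SzGeo.P hF a := by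
    intro c
    refine hG.cent a _ ha h11 _ ?_
    rw [← map_mul, ← map_mul, hucomm]
  have htr : ∀ y, Cfsg.Agent.H459.Rad.tr e.symm σ (e.symm y) = e.symm (σ y) := by
    intro y
    rw [tr_apply]
    simp
  refine Cfsg.Agent.H410.EndSz.key hG (Cfsg.Agent.H410.EndSz.abC hm hF) (σ := Cfsg.Agent.H459.Rad.tr e.symm σ)
    (w := e.symm R.w) (u := e.symm (R.u 0 b)) (a := a)
    (D := D.map e.symm.toMonoidHom) ?_ ?_ ?_ ?_ (hua b) ?_ ?_ ?_ ?_ ?_ ?_ ?_ ?_ ?_
  · rw [← map_mul, hww, map_one]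
  · intro h1
    exact hw1 ((map_eq_one_iff e.symm e.symm.injective).1 h1)
  · intro h1
    apply hwN
    have h2 := hG.central a _ ha (by rw [← map_mul, huu, map_one]) _ h1
    rw [← map_mul, ← map_mul] at h2
    have h3 := e.symm.injective h2
    refine R.ti (x := R.u 0 1) (R.u_mem 0 1) (R.u_ne_one one_ne_zero) ?_
    rw [← h3, mul_inv_cancel_right]
    exact R.u_mem 0 1
  · rw [htr, hσw]
  · rw [htr, hσu]
    exact hua _
  · rw [htr, htr, hσu, hσu]
    exact hua _
  · rw [← map_mul, huu, map_one]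
  · rw [htr, hσu]
    intro h1
    exact hb (R.u_inj (e.symm.injective h1)).2
  · rw [htr, htr, hσu, hσu]
    intro h1
    exact hb2 (R.u_inj (e.symm.injective h1)).2
  · exact Cfsg.Agent.SignalizersComponents.ComponentExists.isSolvable_map hD _
  · exact ⟨_, hD1, by simp⟩
  · rw [← map_mul, ← map_mul, htr]
    exact ⟨_, hD2, rfl⟩
  · rw [← map_mul, ← map_mul, htr, htr]
    exact ⟨_, hD3, rfl⟩

end sz

/-- **The row of the Suzuki groups.** -/
theorem noT_sz {K : Type*} [Group K] [Finite K] [IsSimpleGroup K] (h : Cfsg.Lie.IsoSuzuki K) {p : ℕ}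
    [hp : Fact p.Prime] (hp5 : 5 ≤ p) : Cfsg.Agent.H959.T5.NoT p K := by
  obtain ⟨F, iF, iF', m, hm, hF, ⟨f⟩⟩ := h
  obtain ⟨e⟩ := Cfsg.Agent.OddCyclic.ClaimC.SzIso.iso hm hF
  have hfin : Finite ↥(Cfsg.Sz F m) := Finite.of_injective e e.injective
  have hfinΩ := Cfsg.Agent.H101.SzGeo.finite_ovoid F m
  intro x hx hR hY
  have hp2 : p ≠ 2 := by omega
  have hfact2 : Fact (Nat.Prime 2) := ⟨Nat.prime_two⟩
  -- `x` is inner
  obtain ⟨g, hg1⟩ := inner hm hF hp5 (x := Cfsg.Agent.H459.Rad.tr f x) (by rw [orderOf_tr, hx]) (hY.tr f).inv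
  have hZ' := Cfsg.Agent.H67.SzOdd.center_sz hm hF
  have hZ : center K = ⊥ := by
    rw [eq_bot_iff]
    intro z hz
    have h1 : f z ∈ center ↥(Cfsg.Lie.Sz F (2 ^ (m + 1))) := by
      rw [mem_center_iff] at hz ⊢
      intro y
      have h2 := congrArg f (hz (f.symm y))
      rwa [map_mul, map_mul, f.apply_symm_apply] at h2
    rw [hZ', mem_bot] at h1
    rw [mem_bot]
    exact f.injective (h1.trans (map_one f).symm)
  have hna : ¬ IsMulCommutative K := by
    intro h1
    have h2 : center K = ⊤ := by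
      rw [eq_top_iff]
      intro z _
      rw [mem_center_iff]
      intro y
      exact h1.is_comm.comm y z
    rw [hZ] at h2
    exact bot_ne_top h2
  obtain ⟨y, hy⟩ : ∃ y : K, x = MulAut.conj y := by
    refine ⟨f.symm g, ?_⟩
    ext a
    have h1 : f (x (f.symm (f a))) = g * f a * g⁻¹ := by
      have h2 := DFunLike.congr_fun hg1 (f a)
      rwa [tr_apply, MulAut.conj_apply] at h2
    rw [f.symm_apply_apply] at h1
    rw [MulAut.conj_apply]
    apply f.injective
    rw [h1, map_mul, map_mul, map_inv, f.apply_symm_apply]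
  subst hy
  have hinj := conj_injective hZ
  have hyo : orderOf y = p := by
    rw [← hx]
    exact (orderOf_injective (MulAut.conj : K →* MulAut K) hinj y).symm
  have hYE : TE y := TE.of_t2 hZ hY
  -- the model
  set ε : K ≃* ↥(Cfsg.Sz F m) := f.trans e.symm with hε
  have hzo : orderOf (ε y) = p := by
    rw [← hyo]
    exact orderOf_injective ε.toMonoidHom ε.injective y
  have hZL : center ↥(Cfsg.Sz F m) = ⊥ := by
    rw [eq_bot_iff]
    intro z hz
    have h1 : e z ∈ center ↥(Cfsg.Lie.Sz F (2 ^ (m + 1))) := by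
      rw [mem_center_iff] at hz ⊢
      intro y
      have h2 := congrArg e (hz (e.symm y))
      rwa [map_mul, map_mul, e.apply_symm_apply] at h2
    rw [hZ', mem_bot] at h1
    rw [mem_bot]
    exact e.injective (h1.trans (map_one e).symm)
  have hYL : TE (ε y) := hYE.map ε
  have hcycL : ∀ P : Sylow p ↥(Cfsg.Sz F m), IsCyclic (P : Subgroup ↥(Cfsg.Sz F m)) :=
    fun P => Cfsg.Agent.S0331.result hm hF hp2 P
  have hcyc : ∀ P : Sylow p K, IsCyclic (P : Subgroup K) := by
    intro P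
    have hP : IsPGroup p ↥((P : Subgroup K).map ε.toMonoidHom) := P.isPGroup'.map _
    obtain ⟨Q, hQ⟩ := hP.exists_le_sylow
    have := hcycL Q
    have h2 : IsCyclic ↥((P : Subgroup K).map ε.toMonoidHom) :=
      isCyclic_of_injective (Subgroup.inclusion hQ) (Subgroup.inclusion_injective hQ)
    have h3 : IsCyclic ↥(map (↑ε : K →* ↥(Cfsg.Sz F m)) ↑P) := h2
    exact isCyclic_of_surjective (ε.subgroupMap (P : Subgroup K)).symm
      (ε.subgroupMap (P : Subgroup K)).symm.surjective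
  have hG := Cfsg.Agent.H101.SzGeo.geo hm hF
  have H := SuzukiHyp.hyp hm hF
  -- the order
  have hpK : p ∣ (2 ^ (2 * m + 1)) ^ 2 * (2 ^ (2 * m + 1) - 1) * ((2 ^ (2 * m + 1)) ^ 2 + 1) := by
    rw [← H.card_group, ← hzo]
    exact orderOf_dvd_natCard _
  rcases (hp.out.dvd_mul).1 hpK with h1 | h1
  · rcases (hp.out.dvd_mul).1 h1 with h2 | h2
    · exact hp2 ((Nat.prime_dvd_prime_iff_eq hp.out Nat.prime_two).1
        (hp.out.dvd_of_dvd_pow (hp.out.dvd_of_dvd_pow h2)))
    · exact split_false hG H (fun a z => Cfsg.Agent.H101.SzGeo.mem_P hm hF a z) (exists_order_four hm hF) hp.out hp5 h2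
        hzo hYL
  · have hnf : ¬ FixR 2 (MulAut.conj (ε y)) := not_fixR hG H hp.out h1 hzo
    have hnfK : ¬ FixR 2 (MulAut.conj y) := by
      intro h2
      apply hnf
      refine FixR.of_tr ε.symm ?_
      rwa [tr_conj, ε.symm_apply_apply]
    have h2K : 2 ∣ Nat.card K := by
      rw [Nat.card_congr ε.toEquiv, H.card_group]
      exact ((dvd_pow (dvd_pow_self 2 (by omega)) (by norm_num)).mul_right _).mul_right _
    exact false_of_not_fix2 hna h2K hp2 hcyc hyo hYE hnfK

end Cfsg.Agent.H196.T5.Sz
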